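import Cfsg.Agent.Srg77.Sides
import Cfsg.Prelude.Def_Sporadic_a
import Cfsg.Agent.Steiner.Transport22

/-!
# The strongly regular graph with parameters (77, 16, 0, 4) is the block graph of an S(3,6,22)
-/

set_option autoImplicit false
set_option linter.unusedSectionVars false

namespace CfsgLib.Srg77

open Finset Cfsg

variable {V : Type*} [Fintype V] [DecidableEq V] {G : SimpleGraph V} [DecidableRel G.Adj]

/-- The cocliques of size twenty-one. -/
def cocl (G : SimpleGraph V) [DecidableRel G.Adj] : Finset (Finset V) :=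
  ((univ : Finset V).powersetCard 21).filter fun C => ∀ u ∈ C, ∀ v ∈ C, ¬ G.Adj u v

lemma mem_cocl {C : Finset V} : C ∈ cocl G ↔ C.card = 21 ∧ ∀ u ∈ C, ∀ v ∈ C, ¬ G.Adj u v := by
  simp [cocl]

variable (hG : G.IsSRGWith 77 16 0 4)
include hG

/-- A vertex outside such a coclique has six neighbours in it. -/
lemma nbrs_in_cocl {C : Finset V} (hC : C ∈ cocl G) {u : V} (hu : u ∉ C) :
    ∑ v ∈ C, ad G u v = 6 := by
  obtain ⟨h21, hind⟩ := mem_cocl.mp hC
  have h0 : ∀ u ∈ C, ∑ v ∈ C, ad G u v = 0 := fun u hu =>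
    sum_eq_zero fun v hv => if_neg (hind u hu v hv)
  have h1 : ∑ u, ∑ v ∈ C, ad G u v = 336 := by
    rw [sum_comm, sum_congr rfl fun v _ => show ∑ u, ad G u v = 16 by
      simp only [ad_comm (v := v)]; exact sum_ad hG v, sum_const, h21]
    norm_num
  have h2 : ∑ u, (∑ v ∈ C, ad G u v) * (∑ v ∈ C, ad G u v) = 2016 := by
    have e : ∀ v ∈ C, ∀ w ∈ C, ∑ u, ad G u v * ad G u w = 12 * (if v = w then (1 : ℤ) else 0) + 4 :=
      fun v hv w hw => by
        rw [sum_congr rfl fun u _ => show ad G u v * ad G u w = ad G v u * ad G w u by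
          rw [ad_comm u v, ad_comm u w], sum_ad_ad hG, show ad G v w = 0 from if_neg (hind v hv w hw)]
        ring
    simp only [sum_mul_sum]
    rw [sum_comm, sum_congr rfl fun v hv => sum_comm.trans (sum_congr rfl fun w hw => e v hv w hw)]
    simp only [sum_add_distrib, ← mul_sum, sum_ite_eq, sum_const, h21]
    rw [sum_congr rfl fun v hv => if_pos hv, sum_const, h21]
    norm_num
  have hout : ∀ f : V → ℤ, ∑ u ∈ univ \ C, f u = ∑ u, f u - ∑ u ∈ C, f u := fun f => by
    rw [sum_sdiff_eq_sub (subset_univ C)]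
  have hsq : ∑ u ∈ univ \ C, (∑ v ∈ C, ad G u v - 6) ^ 2 = 0 := by
    have e : ∀ u, (∑ v ∈ C, ad G u v - 6) ^ 2 = (∑ v ∈ C, ad G u v) * (∑ v ∈ C, ad G u v)
        - 12 * ∑ v ∈ C, ad G u v + 36 := fun u => by ring
    simp only [e]
    rw [hout]
    simp only [sum_add_distrib, sum_sub_distrib, ← mul_sum, h1, h2, sum_const, card_univ, hG.card, h21]
    rw [sum_eq_zero h0, sum_eq_zero fun u hu => by rw [h0 u hu, mul_zero]]
    norm_num
  have h := (sum_eq_zero_iff_of_nonneg fun v _ => sq_nonneg _).mp hsq u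
    (mem_sdiff.mpr ⟨mem_univ u, hu⟩)
  have := pow_eq_zero_iff two_ne_zero |>.mp h
  linarith

/-- Cocliques through `x` give compatible sets. -/
lemma good_of_cocl {C : Finset V} (hC : C ∈ cocl G) {x : V} (hx : x ∈ C) : Good G x (C.erase x) := by
  obtain ⟨h21, hind⟩ := mem_cocl.mp hC
  set D := C.erase x
  have hDF : D ⊆ far G x := fun z hz => mem_far.mpr
    ⟨(mem_erase.mp hz).1, hind x hx z (mem_erase.mp hz).2⟩
  have h20 : D.card = 20 := by rw [card_erase_of_mem hx, h21]
  refine ⟨hDF, h20, fun y hy v hv => ?_⟩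
  have hyF := hDF hy
  have htri : ∑ z ∈ D, tri G x y z = 20 := by
    simp only [tri]
    rw [sum_comm]
    simp only [← mul_sum]
    have e : ∀ a, ad G x a * ad G y a * ∑ z ∈ D, ad G z a = 5 * (ad G x a * ad G y a) := fun a => by
      by_cases h : G.Adj x a
      · have ha : a ∉ C := fun ha => hind x hx a ha h
        have h6 := nbrs_in_cocl hG hC ha
        rw [← add_sum_erase C _ hx, show ad G a x = 1 from if_pos h.symm] at h6
        have h5 : ∑ z ∈ D, ad G z a = 5 := by
          rw [sum_congr rfl fun z _ => ad_comm z a]; linarith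
        rw [h5]; ring
      · simp [ad, h]
    rw [sum_congr rfl fun a _ => e a, ← mul_sum, far_four hG hyF]
    norm_num
  have hpr : ∑ z ∈ D, pr G y z = 62 := by
    have e : ∀ z ∈ D, pr G y z = 22 * (if y = z then (1 : ℤ) else 0) + 2 := fun z hz => by
      rw [pr, show ad G y z = 0 from if_neg (hind y (mem_erase.mp hy).2 z (mem_erase.mp hz).2)]
      ring
    rw [sum_congr rfl e, sum_add_distrib, ← mul_sum, sum_ite_eq, if_pos hy, sum_const, h20]
    norm_num
  have h32 : ∑ z ∈ D, kap G x y z = 32 := by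
    have h : ∑ z ∈ D, 11 * kap G x y z = 6 * 62 + 32 * 20 - 33 * 20 := by
      rw [sum_congr rfl fun z _ => kap_eq hG hyF, sum_sub_distrib, sum_add_distrib, ← mul_sum,
        ← mul_sum, hpr, htri, sum_const, h20]
      norm_num
    rw [← mul_sum] at h
    omega
  have hc := card_three hG hyF hDF
  have hs := sum_three hG hyF hDF id
  simp only [id_eq, h32] at hs
  have h4 := (card_le_card (filter_subset_filter (fun z => kap G x y z = 4) hDF)).trans
    (row_counts hG hyF).1.le
  have hnone : (D.filter fun z => kap G x y z = -2).card = 0 := by omega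
  rcases kap_cases hG hyF (hDF hv) with h | h | h
  · omega
  · omega
  · exact absurd (mem_filter.mpr ⟨hv, h⟩) (by rw [card_eq_zero.mp hnone]; exact notMem_empty v)

/-- Compatible sets give cocliques. -/
lemma cocl_of_good {x : V} {D : Finset V} (hD : Good G x D) : x ∉ D ∧ insert x D ∈ cocl G := by
  obtain ⟨hDF, h20, hcl⟩ := hD
  have hx : x ∉ D := fun h => (mem_far.mp (hDF h)).1 rfl
  refine ⟨hx, mem_cocl.mpr ⟨by rw [card_insert_of_notMem hx, h20], ?_⟩⟩
  intro u hu v hv
  rcases mem_insert.mp hu with rfl | hu' <;> rcases mem_insert.mp hv with rfl | hv'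
  · exact G.irrefl
  · exact (mem_far.mp (hDF hv')).2
  · exact fun h => (mem_far.mp (hDF hu')).2 h.symm
  · exact not_adj_of_one_le hG (hcl u hu' v hv')

lemma card_pair (x y : V) (hxy : x ≠ y) :
    ((cocl G).filter fun C => x ∈ C ∧ y ∈ C).card = if G.Adj x y then 0 else 2 := by
  split_ifs with h
  · rw [card_eq_zero, filter_eq_empty_iff]
    exact fun C hC hm => (mem_cocl.mp hC).2 x hm.1 y hm.2 h
  · obtain ⟨D, E, hne, hD, hE, hyD, hyE, huniq⟩ :=
      good_through hG (x := x) (mem_far.mpr ⟨Ne.symm hxy, h⟩)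
    obtain ⟨hxD, hcD⟩ := cocl_of_good hG hD
    obtain ⟨hxE, hcE⟩ := cocl_of_good hG hE
    have : ((cocl G).filter fun C => x ∈ C ∧ y ∈ C) = {insert x D, insert x E} := by
      ext C
      rw [mem_filter, mem_insert, mem_singleton]
      constructor
      · rintro ⟨hC, hx, hy⟩
        rcases huniq _ (good_of_cocl hG hC hx) (mem_erase.mpr ⟨Ne.symm hxy, hy⟩) with e | e
        · exact Or.inl (by rw [← e, insert_erase hx])
        · exact Or.inr (by rw [← e, insert_erase hx])
      · rintro (rfl | rfl)
        · exact ⟨hcD, mem_insert_self x D, mem_insert_of_mem hyD⟩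
        · exact ⟨hcE, mem_insert_self x E, mem_insert_of_mem hyE⟩
    rw [this, Finset.card_pair]
    intro e
    exact hne (by rw [← erase_insert hxD, ← erase_insert hxE, e])

lemma card_through (x : V) : ((cocl G).filter fun C => x ∈ C).card = 6 := by
  set A := (cocl G).filter fun C => x ∈ C with hA
  have h : ∑ C ∈ A, (C.erase x).card = ∑ y ∈ far G x, ((cocl G).filter fun C => x ∈ C ∧ y ∈ C).card := by
    rw [sum_congr rfl fun C hC => show (C.erase x).card =
      ((far G x).filter fun y => y ∈ C).card from congrArg card (by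
        obtain ⟨hC, hx⟩ := mem_filter.mp hC
        ext y
        rw [mem_erase, mem_filter, mem_far]
        exact ⟨fun h => ⟨⟨h.1, (mem_cocl.mp hC).2 x hx y h.2⟩, h.2⟩, fun h => ⟨h.1.1, h.2⟩⟩)]
    simp only [card_filter]
    rw [sum_comm]
    refine sum_congr rfl fun y _ => ?_
    rw [hA, sum_filter]
    refine sum_congr rfl fun C _ => ?_
    by_cases h1 : x ∈ C <;> simp [h1]
  rw [sum_congr rfl fun C hC => show (C.erase x).card = 20 by
      obtain ⟨hC, hx⟩ := mem_filter.mp hC
      rw [card_erase_of_mem hx, (mem_cocl.mp hC).1],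
    sum_congr rfl fun y hy => show ((cocl G).filter fun C => x ∈ C ∧ y ∈ C).card = 2 by
      rw [mem_far] at hy
      rw [card_pair hG x y (Ne.symm hy.1), if_neg hy.2],
    sum_const, sum_const, card_far hG, smul_eq_mul, smul_eq_mul] at h
  omega

/-- The twenty-two points. -/
lemma exists_system : ∃ (B : Set (Finset {C // C ∈ cocl G})),
    IsSteinerSystem 3 6 B ∧ Fintype.card {C // C ∈ cocl G} = 22 ∧
    ∃ six : V ≃ B, ∀ x y : V, G.Adj x y ↔ Disjoint (six x).1 (six y).1 := by
  classical
  let six : V → Finset {C // C ∈ cocl G} := fun x => univ.filter fun C => x ∈ C.1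
  have hsix : ∀ x, (six x).card = 6 := fun x => by
    rw [← card_through hG x, ← card_map (Function.Embedding.subtype _)]
    congr 1
    ext C
    simp [six, and_comm]
  have hmeet : ∀ x y, x ≠ y → (six x ∩ six y).card = if G.Adj x y then 0 else 2 := fun x y hne => by
    rw [← card_pair hG x y hne, ← card_map (Function.Embedding.subtype _)]
    congr 1
    ext C
    simp [six]
    tauto
  have h22 : Fintype.card {C // C ∈ cocl G} = 22 := by
    rw [Fintype.card_coe]
    have h : ∑ x, ((cocl G).filter fun C => x ∈ C).card = ∑ C ∈ cocl G, C.card := by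
      simp only [card_filter]
      rw [sum_comm]
      exact sum_congr rfl fun C _ => by simp
    rw [sum_congr rfl fun x _ => card_through hG x,
      sum_congr rfl fun C hC => show C.card = 21 from (mem_cocl.mp hC).1,
      sum_const, sum_const, card_univ, hG.card, smul_eq_mul, smul_eq_mul] at h
    omega
  have hinj : Function.Injective six := fun x y e => by
    by_contra hne
    have h := hmeet x y hne
    rw [e, inter_self, hsix] at h
    split_ifs at h <;> omega
  let B : Set (Finset {C // C ∈ cocl G}) := Set.range six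
  have huniq : ∀ (T : Finset {C // C ∈ cocl G}), T.card = 3 → ∀ w w' : V,
      T ⊆ six w → T ⊆ six w' → w = w' := by
    intro T hT w w' h1 h2
    by_contra hne
    have h3 := card_le_card (subset_inter h1 h2)
    rw [hmeet w w' hne, hT] at h3
    split_ifs at h3 <;> omega
  have hB : IsSteinerSystem 3 6 B := by
    refine ⟨fun b ⟨w, hw⟩ => hw ▸ hsix w, fun s hs => ?_⟩
    have hdis : ((univ : Finset V) : Set V).PairwiseDisjoint fun w => (six w).powersetCard 3 := by
      intro w _ w' _ hne
      show Disjoint ((six w).powersetCard 3) ((six w').powersetCard 3)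
      rw [disjoint_left]
      intro T h1 h2
      rw [mem_powersetCard] at h1 h2
      exact hne (huniq T h1.2 w w' h1.1 h2.1)
    have hall : (univ : Finset V).biUnion (fun w => (six w).powersetCard 3) =
        (univ : Finset {C // C ∈ cocl G}).powersetCard 3 := by
      refine eq_of_subset_of_card_le (fun T hT => ?_) ?_
      · obtain ⟨w, -, hT⟩ := mem_biUnion.mp hT
        exact mem_powersetCard.mpr ⟨subset_univ _, (mem_powersetCard.mp hT).2⟩
      · rw [card_biUnion hdis, card_powersetCard, card_univ, h22,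
          sum_congr rfl (fun w _ => show ((six w).powersetCard 3).card = 20 by
            rw [card_powersetCard, hsix w]; rfl),
          sum_const, card_univ, hG.card]
        exact le_of_eq rfl
    obtain ⟨w, -, hw⟩ := mem_biUnion.mp (hall ▸ mem_powersetCard.mpr ⟨subset_univ s, hs⟩)
    refine ⟨six w, ⟨⟨w, rfl⟩, (mem_powersetCard.mp hw).1⟩, ?_⟩
    rintro _ ⟨⟨w', rfl⟩, hs'⟩
    rw [huniq s hs w' w hs' (mem_powersetCard.mp hw).1]
  refine ⟨B, hB, h22, Equiv.ofInjective six hinj, fun x y => ?_⟩
  show G.Adj x y ↔ Disjoint (six x) (six y)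
  rw [disjoint_iff_inter_eq_empty, ← card_eq_zero]
  by_cases hxy : x = y
  · subst hxy
    simp [hsix]
  · rw [hmeet x y hxy]
    by_cases h : G.Adj x y <;> simp [h]

omit hG in
/-- Uniqueness. -/
theorem unique {W : Type*} [Fintype W] [DecidableEq W] {H : SimpleGraph W} [DecidableRel H.Adj]
    (hG : G.IsSRGWith 77 16 0 4) (hH : H.IsSRGWith 77 16 0 4) : Nonempty (G ≃g H) := by
  classical
  obtain ⟨B, hB, hα, f, hf⟩ := exists_system hG
  obtain ⟨B', hB', hβ, f', hf'⟩ := exists_system hH
  obtain ⟨π, hπ⟩ := CfsgLib.Steiner.iso22 hB hα hB' hβ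
  subst hπ
  let g : B ≃ (Finset.image π '' B : Set _) :=
    Equiv.Set.image _ _ (Finset.image_injective π.injective)
  refine ⟨⟨(f.trans g).trans f'.symm, ?_⟩⟩
  intro x y
  rw [hf', hf]
  show Disjoint (f' (f'.symm (g (f x)))).1 (f' (f'.symm (g (f y)))).1 ↔ _
  rw [Equiv.apply_symm_apply, Equiv.apply_symm_apply]
  exact Finset.disjoint_image π.injective

end CfsgLib.Srg77
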