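import Mathlib

/-!
# The 15-class kernel at a vertex of a strongly regular graph with parameters (77, 16, 0, 4)

For a fixed vertex `x`, the vertices far from `x` carry an integral kernel `kap` with
`kap ∘ kap = 48 kap`, values `4, 1, -2`, the value `4` being an equivalence.
-/

set_option autoImplicit false
set_option linter.unusedSectionVars false

namespace CfsgLib.Srg77

open Finset

variable {V : Type*} [Fintype V] [DecidableEq V] {G : SimpleGraph V} [DecidableRel G.Adj]

/-- Adjacency as a number. -/
def ad (G : SimpleGraph V) [DecidableRel G.Adj] (u v : V) : ℤ := if G.Adj u v then 1 else 0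

/-- A multiple of the projection on the eigenspace for the eigenvalue `-6`. -/
def pr (G : SimpleGraph V) [DecidableRel G.Adj] (u v : V) : ℤ :=
  22 * (if u = v then 1 else 0) - 11 * ad G u v + 2

/-- The number of common neighbours of `y`, `z` and the fixed vertex. -/
def tri (G : SimpleGraph V) [DecidableRel G.Adj] (x y z : V) : ℤ :=
  ∑ a, ad G x a * ad G y a * ad G z a

/-- The kernel on the vertices far from `x`. -/
def kap (G : SimpleGraph V) [DecidableRel G.Adj] (x y z : V) : ℤ :=
  if y = z then 4 else if G.Adj y z then -2 else 4 - 3 * tri G x y z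

/-- The vertices at distance two from `x`. -/
def far (G : SimpleGraph V) [DecidableRel G.Adj] (x : V) : Finset V :=
  univ.filter fun z => z ≠ x ∧ ¬ G.Adj x z

lemma ad_comm (u v : V) : ad G u v = ad G v u := by simp [ad, G.adj_comm]

lemma pr_comm (u v : V) : pr G u v = pr G v u := by simp [pr, ad_comm u v, eq_comm]

lemma tri_comm (x y z : V) : tri G x y z = tri G x z y :=
  Finset.sum_congr rfl fun a _ => by ring

lemma kap_comm (x y z : V) : kap G x y z = kap G x z y := by
  simp only [kap, eq_comm (a := y) (b := z), G.adj_comm y z, tri_comm x y z]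

lemma kap_self (x y : V) : kap G x y y = 4 := if_pos rfl

lemma mem_far {x z : V} : z ∈ far G x ↔ z ≠ x ∧ ¬ G.Adj x z := by simp [far]

variable (hG : G.IsSRGWith 77 16 0 4)
include hG

lemma deg (v : V) : (univ.filter fun w => G.Adj v w).card = 16 := by
  rw [← hG.regular v, ← SimpleGraph.card_neighborFinset_eq_degree, SimpleGraph.neighborFinset_eq_filter]

lemma sum_ad (v : V) : ∑ w, ad G v w = 16 := by
  simp only [ad, Finset.sum_boole, deg hG v]; norm_num

lemma sum_ad_ad (u v : V) :
    ∑ w, ad G u w * ad G v w = 12 * (if u = v then (1 : ℤ) else 0) + 4 - 4 * ad G u v := by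
  have hc : (univ.filter fun w => G.Adj u w ∧ G.Adj v w).card =
      if u = v then 16 else if G.Adj u v then 0 else 4 := by
    split_ifs with h1 h2
    · subst h1; simp only [and_self]; exact deg hG u
    · rw [← hG.of_adj u v h2, Fintype.card_subtype]
      congr 1
    · rw [← hG.of_not_adj h1 h2, Fintype.card_subtype]
      congr 1
  have hs : ∑ w, ad G u w * ad G v w = ((univ.filter fun w => G.Adj u w ∧ G.Adj v w).card : ℤ) := by
    rw [← Finset.sum_boole]
    refine Finset.sum_congr rfl fun w _ => ?_
    unfold ad; split_ifs <;> simp_all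
  rw [hs, hc]
  by_cases h1 : u = v
  · subst h1; simp [ad]
  · by_cases h2 : G.Adj u v <;> simp [h1, h2, ad]

/-- No triangles. -/
lemma ad_triangle (u v w : V) : ad G u v * ad G u w * ad G v w = 0 := by
  by_cases h1 : G.Adj u v
  · have h := sum_ad_ad hG u v
    rw [if_neg (G.ne_of_adj h1), show ad G u v = 1 from if_pos h1] at h
    have hnn : ∀ i ∈ (univ : Finset V), 0 ≤ ad G u i * ad G v i := fun i _ => by
      unfold ad; split_ifs <;> norm_num
    have h0 : ad G u w * ad G v w = 0 :=
      (Finset.sum_eq_zero_iff_of_nonneg hnn).mp (by linarith) w (Finset.mem_univ w)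
    linear_combination (ad G u v) * h0
  · simp [ad, h1]

lemma sum_pr (u : V) : ∑ w, pr G u w = 0 := by
  simp only [pr, Finset.sum_add_distrib, Finset.sum_sub_distrib, ← Finset.mul_sum, sum_ad hG,
    Finset.sum_ite_eq, Finset.mem_univ, if_true, Finset.sum_const, Finset.card_univ, hG.card]
  norm_num

lemma sum_ad_pr (a u : V) : ∑ w, ad G a w * pr G u w = -6 * pr G u a := by
  have e : ∀ w, ad G a w * pr G u w = 22 * ((if u = w then (1 : ℤ) else 0) * ad G a w)
      - 11 * (ad G a w * ad G u w) + 2 * ad G a w := fun w => by rw [pr]; ring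
  simp only [e, Finset.sum_add_distrib, Finset.sum_sub_distrib, ← Finset.mul_sum, sum_ad hG,
    ite_mul, one_mul, zero_mul, Finset.sum_ite_eq, Finset.mem_univ, if_true, sum_ad_ad hG a u]
  simp only [pr, eq_comm (a := a) (b := u), ad_comm u a]
  ring

lemma sum_pr_pr (u v : V) : ∑ w, pr G u w * pr G v w = 88 * pr G u v := by
  have e : ∀ w, pr G u w * pr G v w = 22 * ((if u = w then (1 : ℤ) else 0) * pr G v w)
      - 11 * (ad G u w * pr G v w) + 2 * pr G v w := fun w => by rw [pr]; ring
  simp only [e, Finset.sum_add_distrib, Finset.sum_sub_distrib, ← Finset.mul_sum, sum_pr hG,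
    ite_mul, one_mul, zero_mul, Finset.sum_ite_eq, Finset.mem_univ, if_true, sum_ad_pr hG u v]
  rw [pr_comm u v]
  ring

section At

variable (x : V)

/-- Splitting off `x` and its neighbours. -/
lemma sum_far (f : V → ℤ) : ∑ z ∈ far G x, f z = ∑ z, f z - f x - ∑ z, ad G x z * f z := by
  rw [far, Finset.sum_filter]
  have hsplit : ∀ z, (if z ≠ x ∧ ¬ G.Adj x z then f z else 0) =
      f z - (if x = z then f z else 0) - ad G x z * f z := fun z => by
    by_cases h1 : x = z
    · subst h1; simp [ad]
    · by_cases h2 : G.Adj x z <;> simp [h1, h2, ad, Ne.symm h1]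
  simp only [hsplit, Finset.sum_sub_distrib, Finset.sum_ite_eq, Finset.mem_univ, if_true]

lemma card_far : (far G x).card = 60 := by
  have h := sum_far hG x (fun _ => (1 : ℤ))
  simp only [Finset.sum_const, Finset.card_univ, hG.card, mul_one, sum_ad hG] at h
  norm_num at h
  exact_mod_cast h

variable {x}

lemma far_four {y : V} (hy : y ∈ far G x) : ∑ a, ad G x a * ad G y a = 4 := by
  rw [mem_far] at hy
  rw [sum_ad_ad hG, if_neg (Ne.symm hy.1), show ad G x y = 0 from if_neg hy.2]
  norm_num

lemma pr_far_x {y : V} (hy : y ∈ far G x) : pr G y x = 2 := by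
  rw [mem_far] at hy
  simp [pr, ad, hy.1, G.adj_comm y x, hy.2]

lemma ad_mul_pr {y : V} (hy : y ∈ far G x) (a : V) :
    ad G x a * pr G y a = ad G x a * (2 - 11 * ad G y a) := by
  rw [mem_far] at hy
  by_cases h : G.Adj x a
  · have : y ≠ a := fun e => hy.2 (e ▸ h)
    rw [pr, if_neg this]; ring
  · simp [ad, h]

lemma tri_x {y : V} (hy : y ∈ far G x) : tri G x y x = 4 := by
  rw [← far_four hG hy, tri]
  refine Finset.sum_congr rfl fun a _ => ?_
  unfold ad
  split_ifs <;> simp

lemma ad_mul_tri (y b : V) : ad G x b * tri G x y b = 0 := by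
  rw [tri, Finset.mul_sum]
  refine Finset.sum_eq_zero fun a _ => ?_
  linear_combination (ad G y a) * (ad_triangle hG x b a)

/-- `11 kap` in terms of the projection and the triple counts. -/
lemma kap_eq {y z : V} (hy : y ∈ far G x) :
    11 * kap G x y z = 6 * pr G y z + 32 - 33 * tri G x y z := by
  unfold kap
  split_ifs with h1 h2
  · subst h1
    have : tri G x y y = 4 := by
      rw [← far_four hG hy, tri]
      refine Finset.sum_congr rfl fun a _ => ?_
      unfold ad
      split_ifs <;> simp
    rw [this]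
    simp [pr, ad]
  · have : tri G x y z = 0 := Finset.sum_eq_zero fun a _ => by
      have h := ad_triangle hG y z a
      rw [show ad G y z = 1 from if_pos h2, one_mul] at h
      linear_combination (ad G x a) * h
    rw [this]
    simp [pr, ad, h1, h2]
  · simp [pr, ad, h1, h2]; ring

lemma far_pr {y : V} (hy : y ∈ far G x) : ∑ z ∈ far G x, pr G y z = 10 := by
  rw [sum_far hG, sum_pr hG, sum_ad_pr hG, pr_far_x hG hy]
  norm_num

lemma far_pr_pr {y w : V} (hy : y ∈ far G x) (hw : w ∈ far G x) :
    ∑ z ∈ far G x, pr G y z * pr G w z = 88 * pr G y w + 108 - 121 * tri G x y w := by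
  rw [sum_far hG, sum_pr_pr hG, pr_far_x hG hy, pr_far_x hG hw]
  have e : ∀ a, ad G x a * (pr G y a * pr G w a) = 4 * ad G x a - 22 * (ad G x a * ad G y a)
      - 22 * (ad G x a * ad G w a) + 121 * (ad G x a * ad G y a * ad G w a) := fun a => by
    have h1 := ad_mul_pr hG hy a
    have h2 := ad_mul_pr hG hw a
    linear_combination (pr G w a) * h1 + (2 - 11 * ad G y a) * h2
  simp only [e, Finset.sum_add_distrib, Finset.sum_sub_distrib, ← Finset.mul_sum, sum_ad hG,
    far_four hG hy, far_four hG hw, tri]
  ring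

lemma far_pr_tri {y w : V} (hy : y ∈ far G x) (hw : w ∈ far G x) :
    ∑ z ∈ far G x, pr G y z * tri G x w z = -56 + 66 * tri G x y w := by
  have h0 : ∀ z, ad G x z * (pr G y z * tri G x w z) = 0 := fun z => by
    linear_combination (pr G y z) * (ad_mul_tri hG (x := x) w z)
  rw [sum_far hG, Finset.sum_eq_zero (fun z _ => h0 z), pr_far_x hG hy, tri_x hG hw]
  have e : ∑ z, pr G y z * tri G x w z =
      ∑ a, ad G x a * ad G w a * (∑ z, ad G a z * pr G y z) := by
    simp only [tri, Finset.mul_sum]
    rw [Finset.sum_comm]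
    refine Finset.sum_congr rfl fun a _ => Finset.sum_congr rfl fun z _ => ?_
    rw [ad_comm a z]; ring
  have e2 : ∀ a, ad G x a * ad G w a * (-6 * pr G y a) = -12 * (ad G x a * ad G w a)
      + 66 * (ad G x a * ad G y a * ad G w a) := fun a => by
    linear_combination (-6 * ad G w a) * (ad_mul_pr hG hy a)
  rw [e]
  simp only [sum_ad_pr hG, e2, Finset.sum_add_distrib, ← Finset.mul_sum, far_four hG hw, tri]
  ring

lemma far_tri {y : V} (hy : y ∈ far G x) : ∑ z ∈ far G x, tri G x y z = 60 := by
  rw [sum_far hG, Finset.sum_eq_zero (fun z _ => ad_mul_tri hG (x := x) y z), tri_x hG hy]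
  have e : ∑ z, tri G x y z = ∑ a, ad G x a * ad G y a * (∑ z, ad G a z) := by
    simp only [tri, Finset.mul_sum]
    rw [Finset.sum_comm]
    refine Finset.sum_congr rfl fun a _ => Finset.sum_congr rfl fun z _ => ?_
    rw [ad_comm a z]
  rw [e]
  simp only [sum_ad hG, ← Finset.sum_mul, far_four hG hy]
  norm_num

lemma far_tri_tri {y w : V} (hy : y ∈ far G x) (hw : w ∈ far G x) :
    ∑ z ∈ far G x, tri G x y z * tri G x w z = 48 + 12 * tri G x y w := by
  have h0 : ∀ z, ad G x z * (tri G x y z * tri G x w z) = 0 := fun z => by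
    linear_combination (tri G x w z) * (ad_mul_tri hG (x := x) y z)
  rw [sum_far hG, Finset.sum_eq_zero (fun z _ => h0 z), tri_x hG hy, tri_x hG hw]
  have e : ∑ z, tri G x y z * tri G x w z =
      ∑ a, ∑ b, (ad G x a * ad G y a) * (ad G x b * ad G w b) * (∑ z, ad G a z * ad G b z) := by
    simp only [tri, Finset.mul_sum, Finset.sum_mul]
    rw [Finset.sum_comm]
    rw [Finset.sum_comm]
    conv_rhs => rw [Finset.sum_comm]
    rw [Finset.sum_comm]
    refine Finset.sum_congr rfl fun _ _ => ?_
    rw [Finset.sum_comm]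
    refine Finset.sum_congr rfl fun _ _ => Finset.sum_congr rfl fun _ _ => ?_
    simp only [ad_comm]
    ring
  have e2 : ∀ a b, (ad G x a * ad G y a) * (ad G x b * ad G w b) *
      (12 * (if a = b then (1 : ℤ) else 0) + 4 - 4 * ad G a b) =
      12 * (if a = b then ad G x a * ad G y a * ad G w a else 0)
        + 4 * ((ad G x a * ad G y a) * (ad G x b * ad G w b)) := fun a b => by
    by_cases h : a = b
    · subst h
      have : ad G x a * ad G x a = ad G x a := by unfold ad; split_ifs <;> simp
      simp only [if_true, show ad G a a = 0 by simp [ad]]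
      linear_combination (12 * ad G y a * ad G w a) * this
    · simp only [if_neg h]
      linear_combination (-4 * ad G y a * ad G w b) * (ad_triangle hG x a b)
  rw [e]
  simp only [sum_ad_ad hG, e2, Finset.sum_add_distrib, ← Finset.mul_sum, Finset.sum_ite_eq,
    Finset.mem_univ, if_true, ← Finset.sum_mul]
  have hy' := mem_far.mp hy
  have hw' := mem_far.mp hw
  simp only [if_neg (Ne.symm hy'.1), if_neg (Ne.symm hw'.1), show ad G x y = 0 from if_neg hy'.2,
    show ad G x w = 0 from if_neg hw'.2, tri]
  ring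

lemma sum_kap {y : V} (hy : y ∈ far G x) : ∑ z ∈ far G x, kap G x y z = 0 := by
  have h : ∑ z ∈ far G x, 11 * kap G x y z = 6 * 10 + 32 * 60 - 33 * 60 := by
    rw [Finset.sum_congr rfl fun z _ => kap_eq hG hy, Finset.sum_sub_distrib, Finset.sum_add_distrib,
      ← Finset.mul_sum, ← Finset.mul_sum, far_pr hG hy, far_tri hG hy, Finset.sum_const, card_far hG]
    norm_num
  rw [← Finset.mul_sum] at h
  omega

/-- The kernel is a multiple of an idempotent. -/
lemma sum_kap_kap {y w : V} (hy : y ∈ far G x) (hw : w ∈ far G x) :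
    ∑ z ∈ far G x, kap G x y z * kap G x w z = 48 * kap G x y w := by
  have e : ∀ z, (11 * kap G x y z) * (11 * kap G x w z) = 36 * (pr G y z * pr G w z) + 1024
      + 1089 * (tri G x y z * tri G x w z) + 192 * pr G y z + 192 * pr G w z
      - 198 * (pr G y z * tri G x w z) - 198 * (pr G w z * tri G x y z)
      - 1056 * tri G x y z - 1056 * tri G x w z := fun z => by
    rw [kap_eq hG hy, kap_eq hG hw]; ring
  have h : ∑ z ∈ far G x, (11 * kap G x y z) * (11 * kap G x w z) = 528 * (11 * kap G x y w) := by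
    rw [Finset.sum_congr rfl fun z _ => e z]
    simp only [Finset.sum_add_distrib, Finset.sum_sub_distrib, ← Finset.mul_sum, far_pr hG hy,
      far_pr hG hw, far_tri hG hy, far_tri hG hw, far_pr_pr hG hy hw, far_pr_tri hG hy hw,
      far_pr_tri hG hw hy, far_tri_tri hG hy hw, Finset.sum_const, card_far hG]
    rw [kap_eq hG hy, tri_comm x w y]
    norm_num
    ring
  simp only [mul_mul_mul_comm (11 : ℤ), ← Finset.mul_sum] at h
  omega

lemma kap_sq_sub {y z : V} (hy : y ∈ far G x) (hz : z ∈ far G x) (c : ℤ) :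
    ∑ u ∈ far G x, (kap G x y u + c * kap G x z u) ^ 2 =
      48 * (4 + 4 * c ^ 2 + 2 * c * kap G x y z) := by
  have e : ∀ u, (kap G x y u + c * kap G x z u) ^ 2 = kap G x y u * kap G x y u
      + c ^ 2 * (kap G x z u * kap G x z u) + 2 * c * (kap G x y u * kap G x z u) := fun u => by ring
  simp only [e, Finset.sum_add_distrib, ← Finset.mul_sum, sum_kap_kap hG hy hy, sum_kap_kap hG hz hz,
    sum_kap_kap hG hy hz, kap_self]
  ring

lemma kap_cases {y z : V} (hy : y ∈ far G x) (hz : z ∈ far G x) :
    kap G x y z = 4 ∨ kap G x y z = 1 ∨ kap G x y z = -2 := by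
  have h0 : 0 ≤ 48 * (4 + 4 * (1 : ℤ) ^ 2 + 2 * 1 * kap G x y z) :=
    kap_sq_sub hG hy hz 1 ▸ Finset.sum_nonneg fun u _ => sq_nonneg _
  have hn : 0 ≤ tri G x y z := Finset.sum_nonneg fun a _ => by
    unfold ad; split_ifs <;> norm_num
  unfold kap at h0 ⊢
  split_ifs at h0 ⊢
  · exact Or.inl rfl
  · exact Or.inr (Or.inr rfl)
  · omega

/-- Equivalent vertices have the same row. -/
lemma row_eq {y z : V} (hy : y ∈ far G x) (hz : z ∈ far G x) (h : kap G x y z = 4) {u : V}
    (hu : u ∈ far G x) : kap G x y u = kap G x z u := by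
  have h0 := kap_sq_sub hG hy hz (-1)
  rw [h] at h0
  norm_num at h0
  have := (Finset.sum_eq_zero_iff_of_nonneg fun v _ => sq_nonneg _).mp h0 u hu
  have := pow_eq_zero_iff (two_ne_zero) |>.mp this
  omega

lemma not_adj_of_one_le {y z : V} (h : 1 ≤ kap G x y z) : ¬ G.Adj y z := fun ha => by
  simp [kap, G.ne_of_adj ha, ha] at h

end At

end CfsgLib.Srg77
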