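import Cfsg.Agent.Srg77.Kernel

/-!
# Every vertex at distance two lies in exactly two compatible sets of size twenty
-/

set_option autoImplicit false
set_option linter.unusedSectionVars false

namespace CfsgLib.Srg77

open Finset

variable {V : Type*} [Fintype V] [DecidableEq V] {G : SimpleGraph V} [DecidableRel G.Adj]
  (hG : G.IsSRGWith 77 16 0 4) {x : V}

/-- A compatible set of twenty vertices. -/
def Good (G : SimpleGraph V) [DecidableRel G.Adj] (x : V) (D : Finset V) : Prop :=
  D ⊆ far G x ∧ D.card = 20 ∧ ∀ u ∈ D, ∀ v ∈ D, 1 ≤ kap G x u v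

include hG

/-- Splitting a set by the three values of a row. -/
lemma card_three {y : V} (hy : y ∈ far G x) {S : Finset V} (hS : S ⊆ far G x) :
    (S.filter fun z => kap G x y z = 4).card + (S.filter fun z => kap G x y z = 1).card +
      (S.filter fun z => kap G x y z = -2).card = S.card := by
  rw [card_eq_sum_ones S, card_filter, card_filter, card_filter, ← sum_add_distrib, ← sum_add_distrib]
  refine sum_congr rfl fun z hz => ?_
  rcases kap_cases hG hy (hS hz) with h | h | h <;> simp [h]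

lemma sum_three {y : V} (hy : y ∈ far G x) {S : Finset V} (hS : S ⊆ far G x) (g : ℤ → ℤ) :
    ∑ z ∈ S, g (kap G x y z) = g 4 * (S.filter fun z => kap G x y z = 4).card +
      g 1 * (S.filter fun z => kap G x y z = 1).card +
      g (-2) * (S.filter fun z => kap G x y z = -2).card := by
  rw [card_filter, card_filter, card_filter]
  push_cast
  rw [mul_sum, mul_sum, mul_sum, ← sum_add_distrib, ← sum_add_distrib]
  refine sum_congr rfl fun z hz => ?_
  rcases kap_cases hG hy (hS hz) with h | h | h <;> simp [h]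

/-- The distribution of a row. -/
lemma row_counts {y : V} (hy : y ∈ far G x) :
    ((far G x).filter fun z => kap G x y z = 4).card = 4 ∧
    ((far G x).filter fun z => kap G x y z = 1).card = 32 ∧
    ((far G x).filter fun z => kap G x y z = -2).card = 24 := by
  have h0 := card_three hG hy (S := far G x) le_rfl
  have h1 := sum_three hG hy (S := far G x) le_rfl id
  have h2 := sum_three hG hy (S := far G x) le_rfl (fun k => k * k)
  rw [card_far hG] at h0
  simp only [id_eq, sum_kap hG hy] at h1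
  simp only [sum_kap_kap hG hy hy, kap_self] at h2
  omega

/-- The number of vertices with given values in two rows. -/
def num (G : SimpleGraph V) [DecidableRel G.Adj] (x y p : V) (i j : ℤ) : ℕ :=
  ((far G x).filter fun z => kap G x y z = i ∧ kap G x p z = j).card

lemma num_row {y p : V} (hy : y ∈ far G x) (hp : p ∈ far G x) :
    (num G x y p 4 4 + num G x y p 4 1 + num G x y p 4 (-2) = 4) ∧
    (num G x y p 1 4 + num G x y p 1 1 + num G x y p 1 (-2) = 32) ∧
    (num G x y p (-2) 4 + num G x y p (-2) 1 + num G x y p (-2) (-2) = 24) := by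
  obtain ⟨a, b, c⟩ := row_counts hG hy
  have key : ∀ i, num G x y p i 4 + num G x y p i 1 + num G x y p i (-2) =
      ((far G x).filter fun z => kap G x y z = i).card := fun i => by
    rw [← card_three hG hp (S := (far G x).filter fun z => kap G x y z = i) (filter_subset _ _)]
    simp only [num, filter_filter]
  exact ⟨(key 4).trans a, (key 1).trans b, (key (-2)).trans c⟩

lemma num_swap (y p : V) (i j : ℤ) : num G x y p i j = num G x p y j i := by
  simp only [num, and_comm]

lemma num_equiv {y p : V} (hy : y ∈ far G x) (hp : p ∈ far G x) (j : ℤ) :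
    num G x y p 4 j = if kap G x y p = j then 4 else 0 := by
  split_ifs with h
  · rw [← (row_counts hG hy).1, num]
    refine congrArg Finset.card (filter_congr fun z hz => ⟨fun e => e.1, fun e => ⟨e, ?_⟩⟩)
    rw [kap_comm x p z, ← row_eq hG hy hz e hp, h]
  · rw [num, card_eq_zero, filter_eq_empty_iff]
    intro z hz e
    refine h ?_
    rw [row_eq hG hy hz e.1 hp, kap_comm, e.2]

lemma num_cross {y p : V} (hy : y ∈ far G x) (hp : p ∈ far G x) :
    48 * kap G x y p = 16 * (num G x y p 4 4 : ℤ) + 4 * num G x y p 4 1 - 8 * num G x y p 4 (-2)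
      + 4 * num G x y p 1 4 + num G x y p 1 1 - 2 * num G x y p 1 (-2)
      - 8 * num G x y p (-2) 4 - 2 * num G x y p (-2) 1 + 4 * num G x y p (-2) (-2) := by
  rw [← sum_kap_kap hG hy hp]
  simp only [num, card_filter]
  push_cast
  simp only [mul_sum, ← sum_add_distrib, ← sum_sub_distrib]
  refine sum_congr rfl fun z hz => ?_
  rcases kap_cases hG hy hz with h | h | h <;> rcases kap_cases hG hp hz with h' | h' | h' <;>
    simp [h, h']

/-- The joint distribution of two rows. -/
lemma joint {y p : V} (hy : y ∈ far G x) (hp : p ∈ far G x) :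
    (kap G x y p = -2 → num G x y p (-2) 1 = 16 ∧ num G x y p (-2) (-2) = 4) ∧
    (kap G x y p = 1 → num G x y p 1 4 = 4 ∧ num G x y p 1 1 = 16) := by
  obtain ⟨a1, a2, a3⟩ := num_row hG hy hp
  obtain ⟨b1, b2, b3⟩ := num_row hG hp hy
  simp only [num_swap hG p y] at b1 b2 b3
  have hc := num_cross hG hy hp
  have e4 := num_equiv hG hy hp
  have f4 : ∀ i, num G x y p i 4 = if kap G x y p = i then 4 else 0 := fun i => by
    rw [num_swap hG, num_equiv hG hp hy, kap_comm]
  have c1 := e4 4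
  have c2 := e4 1
  have c3 := e4 (-2)
  have d2 := f4 1
  have d3 := f4 (-2)
  constructor <;>
  · intro h
    simp only [h] at c1 c2 c3 d2 d3 hc
    norm_num at c1 c2 c3 d2 d3
    omega

/-- Three vertices opposite to `y` in pairwise compatible classes. -/
lemma exists_frame {y : V} (hy : y ∈ far G x) :
    ∃ p₁ ∈ far G x, ∃ p₂ ∈ far G x, ∃ p₃ ∈ far G x,
      kap G x y p₁ = -2 ∧ kap G x y p₂ = -2 ∧ kap G x y p₃ = -2 ∧
      kap G x p₁ p₂ = 1 ∧ kap G x p₁ p₃ = 1 ∧ kap G x p₂ p₃ = 1 := by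
  obtain ⟨p₁, h1⟩ := card_pos.mp (show 0 < ((far G x).filter fun z => kap G x y z = -2).card by
    rw [(row_counts hG hy).2.2]; norm_num)
  rw [mem_filter] at h1
  have n1 := ((joint hG hy h1.1).1 h1.2).1
  rw [num] at n1
  obtain ⟨p₂, h2⟩ := card_pos.mp (by rw [n1]; norm_num :
    0 < ((far G x).filter fun z => kap G x y z = -2 ∧ kap G x p₁ z = 1).card)
  rw [mem_filter] at h2
  have n2 := ((joint hG hy h2.1).1 h2.2.1).1
  rw [num] at n2
  set A := (far G x).filter fun z => kap G x y z = -2 ∧ kap G x p₁ z = 1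
  set B := (far G x).filter fun z => kap G x y z = -2 ∧ kap G x p₂ z = 1
  have hsub : A ∪ B ⊆ (far G x).filter fun z => kap G x y z = -2 := by
    intro z hz
    simp only [A, B, mem_union, mem_filter] at hz
    rw [mem_filter]
    rcases hz with h | h <;> exact ⟨h.1, h.2.1⟩
  have hle := card_le_card hsub
  rw [(row_counts hG hy).2.2] at hle
  have := card_union_add_card_inter A B
  obtain ⟨p₃, h3⟩ := card_pos.mp (show 0 < (A ∩ B).card by omega)
  simp only [A, B, mem_inter, mem_filter] at h3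
  exact ⟨p₁, h1.1, p₂, h2.1, p₃, h3.1.1, h1.2, h2.2.1, h3.1.2.1, h2.2.2, h3.1.2.2, h3.2.2.2⟩

/-- The kernel left after removing `y` and the frame. -/
def res (G : SimpleGraph V) [DecidableRel G.Adj] (x y p₁ p₂ p₃ u v : V) : ℤ :=
  12 * kap G x u v - 3 * (kap G x y u * kap G x y v)
    - (2 * kap G x p₁ u + kap G x y u) * (2 * kap G x p₁ v + kap G x y v)
    - (2 * kap G x p₂ u + kap G x y u) * (2 * kap G x p₂ v + kap G x y v)
    - (2 * kap G x p₃ u + kap G x y u) * (2 * kap G x p₃ v + kap G x y v)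

section Frame

variable {y p₁ p₂ p₃ : V} (hy : y ∈ far G x) (hp₁ : p₁ ∈ far G x) (hp₂ : p₂ ∈ far G x)
  (hp₃ : p₃ ∈ far G x) (h1 : kap G x y p₁ = -2) (h2 : kap G x y p₂ = -2) (h3 : kap G x y p₃ = -2)
  (h12 : kap G x p₁ p₂ = 1) (h13 : kap G x p₁ p₃ = 1) (h23 : kap G x p₂ p₃ = 1)

/-- Pairing of a combination of rows with a row. -/
lemma sum_lin {u w : V} (hu : u ∈ far G x) (hw : w ∈ far G x) (c : ℤ) :
    ∑ z ∈ far G x, c * (kap G x u z * kap G x w z) = c * (48 * kap G x u w) := by
  rw [← mul_sum, sum_kap_kap hG hu hw]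

include hy hp₁ hp₂ hp₃ h1 h2 h3 h12 h13 h23

lemma res_row {u : V} (hu : u ∈ far G x) {w : V} (hw : w ∈ far G x) :
    ∑ z ∈ far G x, res G x y p₁ p₂ p₃ u z * kap G x w z =
      48 * res G x y p₁ p₂ p₃ u w := by
  have e : ∀ z, res G x y p₁ p₂ p₃ u z * kap G x w z =
      12 * (kap G x u z * kap G x w z) + (-3 * kap G x y u) * (kap G x y z * kap G x w z)
      + (-(2 * kap G x p₁ u + kap G x y u) * 2) * (kap G x p₁ z * kap G x w z)
      + (-(2 * kap G x p₁ u + kap G x y u)) * (kap G x y z * kap G x w z)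
      + (-(2 * kap G x p₂ u + kap G x y u) * 2) * (kap G x p₂ z * kap G x w z)
      + (-(2 * kap G x p₂ u + kap G x y u)) * (kap G x y z * kap G x w z)
      + (-(2 * kap G x p₃ u + kap G x y u) * 2) * (kap G x p₃ z * kap G x w z)
      + (-(2 * kap G x p₃ u + kap G x y u)) * (kap G x y z * kap G x w z) := fun z => by
    rw [res]; ring
  simp only [e, sum_add_distrib, sum_lin hG hu hw, sum_lin hG hy hw, sum_lin hG hp₁ hw,
    sum_lin hG hp₂ hw, sum_lin hG hp₃ hw]
  rw [res]
  ring

lemma res_idem {u v : V} (hu : u ∈ far G x) (hv : v ∈ far G x) :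
    ∑ z ∈ far G x, res G x y p₁ p₂ p₃ u z * res G x y p₁ p₂ p₃ v z =
      576 * res G x y p₁ p₂ p₃ u v := by
  have hz : ∀ w ∈ ({y, p₁, p₂, p₃} : Finset V),
      (res G x y p₁ p₂ p₃ u w = 0 ∧ w ∈ far G x) := by
    intro w hw
    simp only [mem_insert, mem_singleton] at hw
    rcases hw with rfl | rfl | rfl | rfl
    · refine ⟨?_, hy⟩
      simp only [res, kap_self, kap_comm x u w, kap_comm x p₁ w, kap_comm x p₂ w, kap_comm x p₃ w,
        h1, h2, h3]
      ring
    · refine ⟨?_, hp₁⟩
      simp only [res, kap_self, kap_comm x u w, kap_comm x p₂ w, kap_comm x p₃ w, h1, h12, h13]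
      ring
    · refine ⟨?_, hp₂⟩
      simp only [res, kap_self, kap_comm x u w, kap_comm x p₃ w, h2, h12, h23]
      ring
    · refine ⟨?_, hp₃⟩
      simp only [res, kap_self, kap_comm x u w, h3, h13, h23]
      ring
  have key : ∀ w ∈ ({y, p₁, p₂, p₃} : Finset V), ∀ c : ℤ,
      ∑ z ∈ far G x, c * (res G x y p₁ p₂ p₃ u z * kap G x w z) = 0 := by
    intro w hw c
    rw [← mul_sum, res_row hG hy hp₁ hp₂ hp₃ h1 h2 h3 h12 h13 h23 hu (hz w hw).2, (hz w hw).1]
    ring
  have e : ∀ z, res G x y p₁ p₂ p₃ u z * res G x y p₁ p₂ p₃ v z =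
      12 * (res G x y p₁ p₂ p₃ u z * kap G x v z)
      + (-3 * kap G x y v - (2 * kap G x p₁ v + kap G x y v) - (2 * kap G x p₂ v + kap G x y v)
          - (2 * kap G x p₃ v + kap G x y v)) * (res G x y p₁ p₂ p₃ u z * kap G x y z)
      + (-2 * (2 * kap G x p₁ v + kap G x y v)) * (res G x y p₁ p₂ p₃ u z * kap G x p₁ z)
      + (-2 * (2 * kap G x p₂ v + kap G x y v)) * (res G x y p₁ p₂ p₃ u z * kap G x p₂ z)
      + (-2 * (2 * kap G x p₃ v + kap G x y v)) * (res G x y p₁ p₂ p₃ u z * kap G x p₃ z) := fun z => by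
    conv_lhs => arg 2; rw [res]
    rw [kap_comm x v z]
    ring
  simp only [e, sum_add_distrib, key y (by simp), key p₁ (by simp), key p₂ (by simp), key p₃ (by simp)]
  rw [← mul_sum, res_row hG hy hp₁ hp₂ hp₃ h1 h2 h3 h12 h13 h23 hu hv]
  ring

lemma res_trace : ∑ z ∈ far G x, res G x y p₁ p₂ p₃ z z = 576 := by
  have e : ∀ z, res G x y p₁ p₂ p₃ z z = 12 * kap G x z z + (-6) * (kap G x y z * kap G x y z)
      + (-4) * (kap G x p₁ z * kap G x p₁ z) + (-4) * (kap G x p₁ z * kap G x y z)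
      + (-4) * (kap G x p₂ z * kap G x p₂ z) + (-4) * (kap G x p₂ z * kap G x y z)
      + (-4) * (kap G x p₃ z * kap G x p₃ z) + (-4) * (kap G x p₃ z * kap G x y z) := fun z => by
    rw [res]; ring
  simp only [e, sum_add_distrib, sum_lin hG hy hy, sum_lin hG hp₁ hp₁, sum_lin hG hp₂ hp₂,
    sum_lin hG hp₃ hp₃, sum_lin hG hp₁ hy, sum_lin hG hp₂ hy, sum_lin hG hp₃ hy, kap_self,
    kap_comm x p₁ y, kap_comm x p₂ y, kap_comm x p₃ y, h1, h2, h3, sum_const, card_far hG]
  norm_num

lemma res_rank_one {w : V} (hw : w ∈ far G x) (hpos : 0 < res G x y p₁ p₂ p₃ w w) {u v : V}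
    (hu : u ∈ far G x) (hv : v ∈ far G x) :
    res G x y p₁ p₂ p₃ w w * res G x y p₁ p₂ p₃ u v =
      res G x y p₁ p₂ p₃ w u * res G x y p₁ p₂ p₃ w v := by
  set R := res G x y p₁ p₂ p₃
  have hidem : ∀ a ∈ far G x, ∀ b ∈ far G x, ∑ z ∈ far G x, R a z * R b z = 576 * R a b :=
    fun a ha b hb => res_idem hG hy hp₁ hp₂ hp₃ h1 h2 h3 h12 h13 h23 ha hb
  have hsq : ∀ a ∈ far G x, ∑ z ∈ far G x, (R w w * R a z - R w a * R w z) ^ 2 =
      576 * R w w * (R w w * R a a - R w a * R w a) := by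
    intro a ha
    have e : ∀ z, (R w w * R a z - R w a * R w z) ^ 2 = R w w ^ 2 * (R a z * R a z)
        + R w a ^ 2 * (R w z * R w z) + (-2 * R w w * R w a) * (R w z * R a z) := fun z => by ring
    simp only [e, sum_add_distrib, ← mul_sum, hidem a ha a ha, hidem w hw w hw, hidem w hw a ha]
    ring
  have hnn : ∀ a ∈ far G x, 0 ≤ R w w * R a a - R w a * R w a := fun a ha => by
    have h := hsq a ha ▸ sum_nonneg (fun z _ => sq_nonneg (R w w * R a z - R w a * R w z))
    exact nonneg_of_mul_nonneg_right (by linarith) (show (0 : ℤ) < 576 * R w w by positivity)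
  have htot : ∑ a ∈ far G x, (R w w * R a a - R w a * R w a) = 0 := by
    rw [sum_sub_distrib, ← mul_sum, res_trace hG hy hp₁ hp₂ hp₃ h1 h2 h3 h12 h13 h23, hidem w hw w hw]
    ring
  have h0 := (sum_eq_zero_iff_of_nonneg hnn).mp htot u hu
  have h := hsq u hu
  rw [h0, mul_zero] at h
  have := pow_eq_zero_iff two_ne_zero |>.mp
    ((sum_eq_zero_iff_of_nonneg fun z _ => sq_nonneg _).mp h v hv)
  linarith

/-- The two sides of `y`. -/
lemma exists_sides_frame : ∃ S T : Finset V,
    S.card = 16 ∧ T.card = 16 ∧ Disjoint S T ∧ S ∪ T = ((far G x).filter fun z => kap G x y z = 1) ∧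
    (∀ u ∈ S, ∀ v ∈ S, 1 ≤ kap G x u v) ∧ (∀ u ∈ T, ∀ v ∈ T, 1 ≤ kap G x u v) ∧
    ∀ K ⊆ S ∪ T, (∀ u ∈ K, ∀ v ∈ K, 1 ≤ kap G x u v) → 9 ≤ K.card → K ⊆ S ∨ K ⊆ T := by
  set B := (far G x).filter fun z => kap G x y z = 1 with hBdef
  have hB : B.card = 32 := (row_counts hG hy).2.1
  set R := res G x y p₁ p₂ p₃ with hR
  have hmB : ∀ u ∈ B, u ∈ far G x ∧ kap G x y u = 1 := fun u hu => mem_filter.mp hu
  have hval : ∀ u ∈ B, ∀ p ∈ far G x, kap G x y p = -2 →
      kap G x p u = 1 ∨ kap G x p u = -2 := fun u hu p hp hyp => by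
    obtain ⟨huF, hyu⟩ := hmB u hu
    rcases kap_cases hG hp huF with h | h
    · have := row_eq hG hp huF h hy
      rw [kap_comm, hyp, kap_comm, hyu] at this
      norm_num at this
    · exact h
  have hdiag : ∀ u ∈ B, R u u = 18 := fun u hu => by
    rcases hval u hu p₁ hp₁ h1 with e1 | e1 <;> rcases hval u hu p₂ hp₂ h2 with e2 | e2 <;>
      rcases hval u hu p₃ hp₃ h3 with e3 | e3 <;>
      simp [hR, res, kap_self, (hmB u hu).2, e1, e2, e3]
  obtain ⟨w₀, hw₀⟩ := card_pos.mp (show 0 < B.card by omega)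
  have hrk : ∀ u ∈ B, ∀ v ∈ B, 18 * R u v = R w₀ u * R w₀ v := fun u hu v hv => by
    rw [← hdiag w₀ hw₀]
    exact res_rank_one hG hy hp₁ hp₂ hp₃ h1 h2 h3 h12 h13 h23 (hmB w₀ hw₀).1
      (by rw [← hR, hdiag w₀ hw₀]; norm_num) (hmB u hu).1 (hmB v hv).1
  have hsgn : ∀ u ∈ B, R w₀ u = 18 ∨ R w₀ u = -18 := fun u hu => by
    have h := hrk u hu u hu
    rw [hdiag u hu] at h
    have : (R w₀ u - 18) * (R w₀ u + 18) = 0 := by linear_combination -h
    rcases mul_eq_zero.mp this with h' | h'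
    · exact Or.inl (by linarith)
    · exact Or.inr (by linarith)
  -- the pattern with respect to the frame
  let pat : V → ℤ × ℤ × ℤ := fun u => (kap G x p₁ u, kap G x p₂ u, kap G x p₃ u)
  have hpair : ∀ u ∈ B, ∀ v ∈ B, (R w₀ u = R w₀ v → 1 ≤ kap G x u v ∧ (pat u = pat v → kap G x u v = 4)) ∧
      (R w₀ u ≠ R w₀ v → 1 ≤ kap G x u v → pat u = pat v) := by
    intro u hu v hv
    have hr : R u v = 12 * kap G x u v - 3
        - (2 * kap G x p₁ u + 1) * (2 * kap G x p₁ v + 1)
        - (2 * kap G x p₂ u + 1) * (2 * kap G x p₂ v + 1)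
        - (2 * kap G x p₃ u + 1) * (2 * kap G x p₃ v + 1) := by
      simp only [hR, res, (hmB u hu).2, (hmB v hv).2]; ring
    have hk := kap_cases hG (hmB u hu).1 (hmB v hv).1
    constructor
    · intro he
      have h18 : R u v = 18 := by
        have h := hrk u hu v hv
        rcases hsgn u hu with e | e <;> rw [← he, e] at h <;> linarith
      rcases hval u hu p₁ hp₁ h1 with a1 | a1 <;> rcases hval u hu p₂ hp₂ h2 with a2 | a2 <;>
        rcases hval u hu p₃ hp₃ h3 with a3 | a3 <;> rcases hval v hv p₁ hp₁ h1 with b1 | b1 <;>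
        rcases hval v hv p₂ hp₂ h2 with b2 | b2 <;> rcases hval v hv p₃ hp₃ h3 with b3 | b3 <;>
        simp only [pat, a1, a2, a3, b1, b2, b3] at hr ⊢ <;>
        exact ⟨by omega, fun e => by first | omega | (simp at e)⟩
    · intro hne h1le
      have h18 : R u v = -18 := by
        have h := hrk u hu v hv
        rcases hsgn u hu with e | e <;> rcases hsgn v hv with e' | e' <;> rw [e, e'] at h <;>
          first | linarith | exact absurd (e.trans e'.symm) hne
      rcases hval u hu p₁ hp₁ h1 with a1 | a1 <;> rcases hval u hu p₂ hp₂ h2 with a2 | a2 <;>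
        rcases hval u hu p₃ hp₃ h3 with a3 | a3 <;> rcases hval v hv p₁ hp₁ h1 with b1 | b1 <;>
        rcases hval v hv p₂ hp₂ h2 with b2 | b2 <;> rcases hval v hv p₃ hp₃ h3 with b3 | b3 <;>
        simp only [pat, a1, a2, a3, b1, b2, b3] at hr ⊢ <;> omega
  set S := B.filter fun u => R w₀ u = 18 with hS
  set T := B.filter fun u => R w₀ u ≠ 18 with hT
  have hST : S.card + T.card = 32 := by rw [hS, hT, card_filter_add_card_filter_not, hB]
  have hTsgn : ∀ u ∈ T, R w₀ u = -18 := fun u hu => by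
    rw [hT, mem_filter] at hu
    exact (hsgn u hu.1).resolve_left hu.2
  -- vertices of one sign compatible with a vertex of the other sign are equivalent
  have hfew : ∀ w ∈ B, ∀ K ⊆ B, (∀ u ∈ K, R w₀ u ≠ R w₀ w) → (∀ u ∈ K, 1 ≤ kap G x w u) →
      K.card ≤ 4 := by
    intro w hw K hKB hne hle
    rcases K.eq_empty_or_nonempty with rfl | ⟨u, hu⟩
    · simp
    · refine le_trans (card_le_card fun v hv => ?_) (row_counts hG (hmB u (hKB hu)).1).1.le
      refine mem_filter.mpr ⟨(hmB v (hKB hv)).1, ?_⟩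
      have hsame : R w₀ u = R w₀ v := by
        have h1 := hne u hu; have h2 := hne v hv
        rcases hsgn w hw with e | e <;> rcases hsgn u (hKB hu) with e' | e' <;>
          rcases hsgn v (hKB hv) with e'' | e'' <;> omega
      refine ((hpair u (hKB hu) v (hKB hv)).1 hsame).2 ?_
      rw [← (hpair w hw u (hKB hu)).2 (hne u hu).symm (hle u hu),
        ← (hpair w hw v (hKB hv)).2 (hne v hv).symm (hle v hv)]
  have hdeg : ∀ w ∈ B, (B.filter fun u => 1 ≤ kap G x w u).card = 20 := by
    intro w hw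
    obtain ⟨hwF, hyw⟩ := hmB w hw
    obtain ⟨a, b⟩ := (joint hG hy hwF).2 hyw
    rw [num] at a b
    have hsplit : (B.filter fun u => 1 ≤ kap G x w u) =
        ((far G x).filter fun u => kap G x y u = 1 ∧ kap G x w u = 4) ∪
        ((far G x).filter fun u => kap G x y u = 1 ∧ kap G x w u = 1) := by
      ext u
      simp only [hBdef, mem_filter, mem_union]
      constructor
      · rintro ⟨⟨huF, hyu⟩, hle⟩
        rcases kap_cases hG hwF huF with h | h | h
        · exact Or.inl ⟨huF, hyu, h⟩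
        · exact Or.inr ⟨huF, hyu, h⟩
        · omega
      · rintro (⟨huF, hyu, h⟩ | ⟨huF, hyu, h⟩) <;> exact ⟨⟨huF, hyu⟩, by omega⟩
    rw [hsplit, card_union_of_disjoint, show _ = 4 from a, show _ = 16 from b]
    rw [disjoint_filter]
    intro u _ h h'
    omega
  have hside : ∀ w ∈ B, (B.filter fun u => R w₀ u = R w₀ w).card ≤ 20 ∧
      16 ≤ (B.filter fun u => R w₀ u = R w₀ w).card := by
    intro w hw
    have h20 := hdeg w hw
    have hsub : (B.filter fun u => R w₀ u = R w₀ w) ⊆ B.filter fun u => 1 ≤ kap G x w u := by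
      intro u hu
      rw [mem_filter] at hu ⊢
      exact ⟨hu.1, ((hpair w hw u hu.1).1 hu.2.symm).1⟩
    refine ⟨(card_le_card hsub).trans h20.le, ?_⟩
    set K := (B.filter fun u => 1 ≤ kap G x w u).filter fun u => R w₀ u ≠ R w₀ w
    have hK : K.card ≤ 4 := hfew w hw K ((filter_subset _ _).trans (filter_subset _ _))
      (fun u hu => (mem_filter.mp hu).2) (fun u hu => (mem_filter.mp (mem_filter.mp hu).1).2)
    have h := card_filter_add_card_filter_not (s := B.filter fun u => 1 ≤ kap G x w u)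
      (fun u => R w₀ u = R w₀ w)
    have hle : ((B.filter fun u => 1 ≤ kap G x w u).filter fun u => R w₀ u = R w₀ w).card ≤
        (B.filter fun u => R w₀ u = R w₀ w).card := card_le_card fun u hu => by
      simp only [mem_filter] at hu ⊢
      exact ⟨hu.1.1, hu.2⟩
    have hKdef : K.card = ((B.filter fun u => 1 ≤ kap G x w u).filter
        fun u => ¬ R w₀ u = R w₀ w).card := rfl
    omega
  have hS16 := hside w₀ hw₀
  rw [show R w₀ w₀ = 18 from hdiag w₀ hw₀, ← hS] at hS16
  obtain ⟨w₁, hw₁⟩ := card_pos.mp (show 0 < T.card by omega)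
  have hT16 := hside w₁ (mem_filter.mp hw₁).1
  have hTeq : (B.filter fun u => R w₀ u = R w₀ w₁) = T := by
    rw [hT]
    refine filter_congr fun u hu => ?_
    rw [hTsgn w₁ hw₁]
    rcases hsgn u hu with e | e <;> simp [e]
  rw [hTeq] at hT16
  have hSB : ∀ u ∈ S, u ∈ B := fun u hu => (mem_filter.mp hu).1
  have hTB : ∀ u ∈ T, u ∈ B := fun u hu => (mem_filter.mp hu).1
  refine ⟨S, T, by omega, by omega, disjoint_filter_filter_not _ _ _, filter_union_filter_not_eq _ _,
    fun u hu v hv => ((hpair u (hSB u hu) v (hSB v hv)).1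
      ((mem_filter.mp hu).2.trans (mem_filter.mp hv).2.symm)).1,
    fun u hu v hv => ((hpair u (hTB u hu) v (hTB v hv)).1
      ((hTsgn u hu).trans (hTsgn v hv).symm)).1, ?_⟩
  intro K hK hcl h9
  by_contra hno
  rw [not_or, not_subset, not_subset] at hno
  obtain ⟨⟨u, huK, huS⟩, ⟨v, hvK, hvT⟩⟩ := hno
  have huT : u ∈ T := (mem_union.mp (hK huK)).resolve_left huS
  have hvS : v ∈ S := (mem_union.mp (hK hvK)).resolve_right hvT
  have hKB : K ⊆ B := fun z hz => by
    rcases mem_union.mp (hK hz) with h | h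
    exacts [hSB z h, hTB z h]
  have k1 := hfew v (hSB v hvS) (K.filter fun z => R w₀ z ≠ R w₀ v) ((filter_subset _ _).trans hKB)
    (fun z hz => (mem_filter.mp hz).2) (fun z hz => hcl v hvK z (mem_filter.mp hz).1)
  have k2 := hfew u (hTB u huT) (K.filter fun z => R w₀ z ≠ R w₀ u) ((filter_subset _ _).trans hKB)
    (fun z hz => (mem_filter.mp hz).2) (fun z hz => hcl u huK z (mem_filter.mp hz).1)
  have hcov : K ⊆ (K.filter fun z => R w₀ z ≠ R w₀ v) ∪ (K.filter fun z => R w₀ z ≠ R w₀ u) := by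
    intro z hz
    rw [mem_union, mem_filter, mem_filter, (mem_filter.mp hvS).2, hTsgn u huT]
    rcases hsgn z (hKB hz) with e | e
    · exact Or.inr ⟨hz, by omega⟩
    · exact Or.inl ⟨hz, by omega⟩
  have := (card_le_card hcov).trans (card_union_le _ _)
  omega

end Frame

/-- Every far vertex lies in exactly two compatible sets. -/
theorem good_through {y : V} (hy : y ∈ far G x) : ∃ D E : Finset V, D ≠ E ∧ Good G x D ∧ Good G x E ∧
    y ∈ D ∧ y ∈ E ∧ ∀ K, Good G x K → y ∈ K → K = D ∨ K = E := by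
  obtain ⟨p₁, hp₁, p₂, hp₂, p₃, hp₃, h1, h2, h3, h12, h13, h23⟩ := exists_frame hG hy
  obtain ⟨S, T, hS, hT, hdisj, hun, hScl, hTcl, hmix⟩ :=
    exists_sides_frame hG hy hp₁ hp₂ hp₃ h1 h2 h3 h12 h13 h23
  set Cy := (far G x).filter fun z => kap G x y z = 4 with hCy
  have hC4 : Cy.card = 4 := (row_counts hG hy).1
  have hmB : ∀ u ∈ S ∪ T, u ∈ far G x ∧ kap G x y u = 1 := fun u hu => mem_filter.mp (hun ▸ hu)
  have hgood : ∀ U ⊆ S ∪ T, U.card = 16 → (∀ u ∈ U, ∀ v ∈ U, 1 ≤ kap G x u v) →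
      Good G x (Cy ∪ U) := by
    intro U hU hU16 hcl
    have hd : Disjoint Cy U := disjoint_left.mpr fun u hu hu' => by
      have := (mem_filter.mp hu).2
      rw [(hmB u (hU hu')).2] at this
      norm_num at this
    refine ⟨union_subset (filter_subset _ _) fun u hu => (hmB u (hU hu)).1, ?_, ?_⟩
    · rw [card_union_of_disjoint hd, hC4, hU16]
    · intro u hu v hv
      rcases mem_union.mp hu with hu' | hu' <;> rcases mem_union.mp hv with hv' | hv'
      · rw [mem_filter] at hu' hv'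
        rw [← row_eq hG hy hu'.1 hu'.2 hv'.1, hv'.2]
        norm_num
      · rw [mem_filter] at hu'
        rw [← row_eq hG hy hu'.1 hu'.2 (hmB v (hU hv')).1, (hmB v (hU hv')).2]
      · rw [mem_filter] at hv'
        rw [kap_comm, ← row_eq hG hy hv'.1 hv'.2 (hmB u (hU hu')).1, (hmB u (hU hu')).2]
      · exact hcl u hu' v hv'
  have hyC : y ∈ Cy := mem_filter.mpr ⟨hy, kap_self x y⟩
  have hD := hgood S subset_union_left hS hScl
  have hE := hgood T subset_union_right hT hTcl
  refine ⟨Cy ∪ S, Cy ∪ T, fun e => ?_, hD, hE, mem_union_left _ hyC, mem_union_left _ hyC, ?_⟩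
  · obtain ⟨s, hs⟩ := card_pos.mp (show 0 < S.card by omega)
    rcases mem_union.mp (e ▸ mem_union_right Cy hs : s ∈ Cy ∪ T) with h | h
    · have := (mem_filter.mp h).2
      rw [(hmB s (mem_union_left _ hs)).2] at this
      norm_num at this
    · exact disjoint_left.mp hdisj hs h
  · rintro K ⟨hKF, hK20, hKcl⟩ hyK
    set L := K.filter fun z => kap G x y z ≠ 4
    have hLsub : L ⊆ S ∪ T := fun z hz => by
      rw [mem_filter] at hz
      rw [hun, mem_filter]
      refine ⟨hKF hz.1, ?_⟩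
      rcases kap_cases hG hy (hKF hz.1) with h | h | h
      · exact absurd h hz.2
      · exact h
      · have := hKcl y hyK z hz.1; omega
    have hKsub : K ⊆ Cy ∪ L := fun z hz => by
      by_cases h : kap G x y z = 4
      · exact mem_union_left _ (mem_filter.mpr ⟨hKF hz, h⟩)
      · exact mem_union_right _ (mem_filter.mpr ⟨hz, h⟩)
    have hL16 : 16 ≤ L.card := by
      have := (card_le_card hKsub).trans (card_union_le _ _)
      omega
    rcases hmix L hLsub (fun u hu v hv => hKcl u (mem_filter.mp hu).1 v (mem_filter.mp hv).1)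
      (by omega) with h | h
    · exact Or.inl (eq_of_subset_of_card_le (hKsub.trans (union_subset_union subset_rfl h))
        (by rw [hD.2.1, hK20]))
    · exact Or.inr (eq_of_subset_of_card_le (hKsub.trans (union_subset_union subset_rfl h))
        (by rw [hE.2.1, hK20]))

end CfsgLib.Srg77
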